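import Groth.Agent.FormLim.Trunc
import Groth.Agent.W7Exist.Completion

/-!
Formal systems for a principal ideal presented by short exact sequences.
-/

set_option autoImplicit false
set_option linter.style.haveILetI false
set_option maxHeartbeats 1000000
set_option backward.isDefEq.respectTransparency false
set_option backward.isDefEq.respectTransparency.types false

universe u

open CategoryTheory CategoryTheory.Limits Opposite TopologicalSpace AlgebraicGeometry
open Groth.Agent.QC (res)
open Groth.Agent.W7Cech (smulMod_natural)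
open Groth.Agent.W7Exist (smulMod_comp smulMod_zero)

noncomputable section

namespace Groth.Agent.FormLim

variable {A : Type u} [CommRing A] {X : Scheme.{u}} [X.Over (Spec (CommRingCat.of A))]
  {f : A} {G : ℕᵒᵖ ⥤ X.Modules}

/-- The transition map. -/
abbrev t1 (G : ℕᵒᵖ ⥤ X.Modules) (n : ℕ) : G.obj (op (n + 1)) ⟶ G.obj (op n) :=
  G.map (homOfLE (Nat.le_succ n)).op

/-- The map to the bottom. -/
abbrev t0 (G : ℕᵒᵖ ⥤ X.Modules) (n : ℕ) : G.obj (op n) ⟶ G.obj (op 0) :=
  G.map (homOfLE (Nat.zero_le n)).op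

lemma t1_t0 (G : ℕᵒᵖ ⥤ X.Modules) (n : ℕ) : t1 G n ≫ t0 G n = t0 G (n + 1) := by
  rw [← G.map_comp, ← op_comp, homOfLE_comp]

lemma smul_mem_span_pow {g a : A} {k : ℕ} (ha : a ∈ (Ideal.span ({g} : Set A)) ^ k) : ∃ b, a = b * g ^ k := by
  rw [Ideal.span_singleton_pow, Ideal.mem_span_singleton'] at ha
  exact ha.imp fun b hb => hb.symm

lemma smulMod_cokernel_π (J : Ideal A) (M : X.Modules) (a : A) (ha : a ∈ J) :
    Formal.smulMod A M a ≫ cokernel.π (Formal.smulFamily J M) = 0 := by
  have e := congrArg (Sigma.ι (fun _ : ↥J => M) ⟨a, ha⟩ ≫ ·) (cokernel.condition (Formal.smulFamily J M))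
  simp only [comp_zero] at e
  rwa [← Category.assoc, show Sigma.ι (fun _ : ↥J => M) ⟨a, ha⟩ ≫ Formal.smulFamily J M = Formal.smulMod A M a
    from Sigma.ι_desc _ _] at e

lemma smulFamily_comp_eq_zero (J : Ideal A) {M N : X.Modules} (φ : M ⟶ N) (hN : Formal.KilledBy J N) :
    Formal.smulFamily J M ≫ φ = 0 := Sigma.hom_ext _ _ fun a => by
  rw [comp_zero, ← Category.assoc, show Sigma.ι (fun _ : ↥J => M) a ≫ Formal.smulFamily J M =
    Formal.smulMod A M (a : A) from Sigma.ι_desc _ a, smulMod_natural, hN a a.2, comp_zero]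

/-- A map whose kernel consists, on affine opens, of multiples by elements of `J` is the quotient by `J`. -/
theorem exists_isIso_desc (J : Ideal A) {M N : X.Modules} (φ : M ⟶ N) (hφ : Epi φ) (hN : Formal.KilledBy J N)
    (hsec : ∀ U : X.Opens, IsAffineOpen U → ∀ x, φ.app U x = 0 →
      ∃ a ∈ J, ∃ z, (Formal.smulMod A M a).app U z = x) :
    ∃ h : Formal.smulFamily J M ≫ φ = 0, IsIso (cokernel.desc _ _ h) := by
  haveI := hφ
  refine ⟨smulFamily_comp_eq_zero J φ hN, ?_⟩
  have hker : kernel.ι φ ≫ cokernel.π (Formal.smulFamily J M) = 0 := by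
    refine Scheme.Modules.hom_ext _ _ fun W => ?_
    ext k
    refine QC.section_eq_of_locally fun x hx => ?_
    obtain ⟨_, ⟨U, hU, rfl⟩, hxU, hUW⟩ :=
      (Scheme.isBasis_affineOpens X).exists_subset_of_mem_open hx W.2
    replace hUW : U ≤ W := hUW
    refine ⟨U, hUW, hxU, ?_⟩
    refine Eq.trans ?_ (map_zero _).symm
    refine (QC.app_res _ hUW k).trans ?_
    generalize res _ hUW k = k'
    obtain ⟨a, ha, z, hz⟩ := hsec U hU ((kernel.ι φ).app U k') (congr(($(kernel.condition φ)).app U k'))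
    show (cokernel.π (Formal.smulFamily J M)).app U ((kernel.ι φ).app U k') = 0
    rw [← hz]
    exact congr(($(smulMod_cokernel_π J M a ha)).app U z)
  refine ⟨Abelian.epiDesc φ _ hker, ?_, ?_⟩
  · rw [← cancel_epi (cokernel.π (Formal.smulFamily J M)), ← Category.assoc, cokernel.π_desc,
      Abelian.comp_epiDesc, Category.comp_id]
  · rw [← cancel_epi φ, ← Category.assoc, Abelian.comp_epiDesc, cokernel.π_desc, Category.comp_id]

/-- The hypotheses on the system. -/
structure IsPrincipalSys (f : A) (G : ℕᵒᵖ ⥤ X.Modules) : Prop where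
  qc : ∀ n, Coh.IsQCoh (G.obj (op n))
  step : ∀ n : ℕ, ∃ i : G.obj (op n) ⟶ G.obj (op (n + 1)), Mono i ∧
    t1 G n ≫ i = Formal.smulMod A (G.obj (op (n + 1))) f ∧
    ∃ w : i ≫ t0 G (n + 1) = 0, (ShortComplex.mk i (t0 G (n + 1)) w).ShortExact

variable (h : IsPrincipalSys f G)
include h

lemma IsPrincipalSys.epi_t0 (n : ℕ) : Epi (t0 G n) := by
  cases n with
  | zero =>
    rw [show t0 G 0 = 𝟙 _ from G.map_id _]
    infer_instance
  | succ n =>
    obtain ⟨i, -, -, w, hS⟩ := h.step n
    exact hS.epi_g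

lemma IsPrincipalSys.killed (n : ℕ) : Formal.smulMod A (G.obj (op n)) (f ^ (n + 1)) = 0 := by
  induction n with
  | zero =>
    obtain ⟨i, -, hi, w, -⟩ := h.step 0
    haveI := h.epi_t0 1
    rw [zero_add, pow_one, ← cancel_epi (t0 G 1), ← smulMod_natural, ← hi, Category.assoc, w, comp_zero]
  | succ n ih =>
    obtain ⟨i, -, hi, -⟩ := h.step n
    rw [pow_succ', mul_comm, ← smulMod_comp, ← hi, Category.assoc, ← smulMod_natural, ih, zero_comp, comp_zero]

lemma IsPrincipalSys.killedBy (n : ℕ) : Formal.KilledBy (Ideal.span ({f} : Set A) ^ (n + 1)) (G.obj (op n)) := by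
  intro a ha
  obtain ⟨b, rfl⟩ := smul_mem_span_pow ha
  rw [← smulMod_comp, h.killed, zero_comp]

lemma IsPrincipalSys.epi_t1 (n : ℕ) : Epi (t1 G n) := by
  induction n with
  | zero =>
    have e : t1 G 0 = t0 G 1 := rfl
    rw [e]
    exact h.epi_t0 1
  | succ n ih =>
    obtain ⟨i, -, hi, w, hS⟩ := h.step n
    haveI := ih
    haveI := h.epi_t0 (n + 1 + 1)
    apply Preadditive.epi_of_cokernel_zero
    let q := cokernel.π (t1 G (n + 1))
    let C := cokernel (t1 G (n + 1))
    haveI hfe : Epi (Formal.smulMod A C f) := by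
      apply Preadditive.epi_of_cokernel_zero
      let π := cokernel.π (Formal.smulMod A C f)
      have h1 : i ≫ q ≫ π = 0 := by
        rw [← cancel_epi (t1 G n), ← Category.assoc, hi, ← Category.assoc, smulMod_natural, Category.assoc,
          cokernel.condition, comp_zero, comp_zero]
      obtain ⟨r, hr⟩ : ∃ r, t0 G (n + 1) ≫ r = q ≫ π :=
        ⟨_, hS.gIsCokernel.fac (CokernelCofork.ofπ (q ≫ π) h1) WalkingParallelPair.one⟩
      have hr0 : r = 0 := by
        rw [← cancel_epi (t0 G (n + 1 + 1)), ← t1_t0, Category.assoc, hr, ← Category.assoc,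
          cokernel.condition, zero_comp, comp_zero]
      rw [hr0, comp_zero] at hr
      exact (cancel_epi q).1 (hr.symm.trans comp_zero.symm)
    have hpow : ∀ k, Epi (Formal.smulMod A C (f ^ k)) := by
      intro k
      induction k with
      | zero =>
        have : Formal.smulMod A C (f ^ 0) = 𝟙 C := by
          rw [pow_zero]
          refine Scheme.Modules.hom_ext _ _ fun W => ?_
          ext z
          show (W7Cech.secRing A W 1) • (show Γ(C, W) from z) = z
          rw [map_one, one_smul]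
        rw [this]
        infer_instance
      | succ k ih =>
        haveI := ih
        rw [pow_succ', ← smulMod_comp]
        infer_instance
    haveI := hpow (n + 1 + 1)
    have hs : Formal.smulMod A C (f ^ (n + 1 + 1)) = 0 := (cancel_epi q).1 (by
      rw [← smulMod_natural, h.killed, zero_comp, comp_zero])
    have h1 : 𝟙 C = 0 := (cancel_epi (Formal.smulMod A C (f ^ (n + 1 + 1)))).1 (by
      rw [Category.comp_id, comp_zero, hs])
    show q = 0
    rw [← Category.comp_id q, h1, comp_zero]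

lemma IsPrincipalSys.exists_desc_bottom (n : ℕ) {P : X.Modules} (g : G.obj (op (n + 1)) ⟶ P)
    (hg : Formal.smulMod A (G.obj (op (n + 1))) f ≫ g = 0) : ∃ r, t0 G (n + 1) ≫ r = g := by
  obtain ⟨i, -, hi, w, hS⟩ := h.step n
  haveI := h.epi_t1 n
  have h1 : i ≫ g = 0 := by rw [← cancel_epi (t1 G n), ← Category.assoc, hi, hg, comp_zero]
  exact ⟨_, hS.gIsCokernel.fac (CokernelCofork.ofπ g h1) WalkingParallelPair.one⟩

/-- Sections over an affine open in the kernel of the map to the bottom are multiples of `f`. -/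
lemma IsPrincipalSys.exists_smul_of_t0 (n : ℕ) {U : X.Opens} (hU : IsAffineOpen U)
    (x : Γ(G.obj (op (n + 1)), U)) (hx : (t0 G (n + 1)).app U x = 0) :
    ∃ z, (Formal.smulMod A (G.obj (op (n + 1))) f).app U z = x := by
  let π := cokernel.π (Formal.smulFamily (Ideal.span ({f} : Set A)) (G.obj (op (n + 1))))
  have hπ : Formal.smulMod A (G.obj (op (n + 1))) f ≫ π = 0 :=
    smulMod_cokernel_π _ _ f (Ideal.subset_span rfl)
  obtain ⟨r, hr⟩ := h.exists_desc_bottom n π hπ
  have h0 : π.app U x = 0 := by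
    rw [← hr]
    show r.app U ((t0 G (n + 1)).app U x) = 0
    rw [hx, map_zero]
  have hm := (W7Rees.modQuot_eq_zero_iff _ (Ideal.span ({f} : Set A)) (h.qc (n + 1)) hU x).1 h0
  refine Submodule.smul_induction_on hm (fun a ha m _ => ?_) ?_
  · obtain ⟨b, rfl⟩ := Ideal.mem_span_singleton'.1 ha
    refine ⟨(Formal.smulMod A (G.obj (op (n + 1))) b).app U m, ?_⟩
    refine (congr(($(smulMod_comp (G.obj (op (n + 1))) b f)).app U m)).trans ?_
    rw [mul_comm]
    rfl
  · rintro a b ⟨z, hz⟩ ⟨z', hz'⟩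
    exact ⟨z + z', by rw [map_add, hz, hz']⟩

/-- The kernels of the transition maps, on sections over affine opens. -/
lemma IsPrincipalSys.exists_pow_smul_of_t1 (n : ℕ) {U : X.Opens} (hU : IsAffineOpen U) :
    ∀ x : Γ(G.obj (op (n + 1)), U), (t1 G n).app U x = 0 →
      ∃ z, (Formal.smulMod A (G.obj (op (n + 1))) (f ^ (n + 1))).app U z = x := by
  induction n with
  | zero =>
    intro x hx
    rw [show f ^ (0 + 1) = f from pow_one f]
    exact h.exists_smul_of_t0 0 hU x hx
  | succ n ih =>
    intro x hx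
    have hx0 : (t0 G (n + 1 + 1)).app U x = 0 := by
      rw [← t1_t0]
      show (t0 G (n + 1)).app U ((t1 G (n + 1)).app U x) = 0
      rw [hx, map_zero]
    obtain ⟨z, rfl⟩ := h.exists_smul_of_t0 (n + 1) hU x hx0
    have hy : (Formal.smulMod A (G.obj (op (n + 1))) f).app U ((t1 G (n + 1)).app U z) = 0 :=
      (congr(($(smulMod_natural A (t1 G (n + 1)) f)).app U z)).symm.trans hx
    have hz : (t1 G n).app U ((t1 G (n + 1)).app U z) = 0 := by
      obtain ⟨i, hmono, hi, -⟩ := h.step n
      apply QC.app_injective_of_mono i U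
      rw [map_zero]
      exact (congr(($hi).app U _)).trans hy
    obtain ⟨w, hw⟩ := ih _ hz
    haveI := h.epi_t1 (n + 1)
    obtain ⟨w', rfl⟩ := QC.app_surjective_of_epi hU (h.qc _) (h.qc _) (t1 G (n + 1)) w
    obtain ⟨i, -, hi, -⟩ := h.step (n + 1)
    refine ⟨w', ?_⟩
    have e1 : (Formal.smulMod A (G.obj (op (n + 1 + 1))) f).app U z = i.app U ((t1 G (n + 1)).app U z) :=
      (congr(($hi).app U z)).symm
    have e2 : Formal.smulMod A (G.obj (op (n + 1 + 1))) (f ^ (n + 1 + 1)) =
        t1 G (n + 1) ≫ Formal.smulMod A (G.obj (op (n + 1))) (f ^ (n + 1)) ≫ i := by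
      rw [smulMod_natural, ← Category.assoc, hi, smulMod_comp, ← pow_succ]
    rw [e1, ← hw, e2]
    rfl

/-- The system is a formal system. -/
theorem IsPrincipalSys.isQCohFormal : Formal2.IsQCohFormal (Ideal.span ({f} : Set A)) G := by
  refine ⟨h.qc, h.killedBy, ?_⟩
  intro n
  have hsec : ∀ U : X.Opens, IsAffineOpen U → ∀ x, (t1 G n).app U x = 0 →
      ∃ a ∈ Ideal.span ({f} : Set A) ^ (n + 1), ∃ z, (Formal.smulMod A (G.obj (op (n + 1))) a).app U z = x := by
    intro U hU x hx
    exact ⟨f ^ (n + 1), Ideal.pow_mem_pow (Ideal.mem_span_singleton_self f) (n + 1),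
      h.exists_pow_smul_of_t1 n hU x hx⟩
  exact @exists_isIso_desc A _ X _ (Ideal.span ({f} : Set A) ^ (n + 1)) (G.obj (op (n + 1))) (G.obj (op n))
    (t1 G n) (h.epi_t1 n) (h.killedBy n) hsec

/-- The limit is torsion free and algebraizes the system. -/
theorem IsPrincipalSys.exists_algebraization :
    ∃ F : X.Modules, Mono (Formal.smulMod A F f) ∧
      Nonempty (Formal.completion (Ideal.span ({f} : Set A)) F ≅ G) := by
  let I := Ideal.span ({f} : Set A)
  have hI : I.FG := ⟨{f}, by simp [I]⟩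
  refine ⟨limit G, Preadditive.mono_of_kernel_zero (limit.hom_ext fun ⟨n⟩ => ?_), ?_⟩
  · obtain ⟨i, hmono, hi, -⟩ := h.step n
    haveI := hmono
    rw [zero_comp, ← limit.w G (homOfLE (Nat.le_succ n)).op, ← cancel_mono i, Category.assoc, Category.assoc, hi,
      ← smulMod_natural, ← Category.assoc, kernel.condition, zero_comp, zero_comp]
  · choose hc hiso using fun n => isIso_desc h.isQCohFormal hI n
    let d : ∀ n, (Formal.completion I (limit G)).obj (op n) ⟶ G.obj (op n) := fun n => cokernel.desc _ _ (hc n)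
    have hd : ∀ n, Formal.modPowπ I (n + 1) (limit G) ≫ d n = limit.π G (op n) := fun n => cokernel.π_desc _ _ (hc n)
    let η : Formal.completion I (limit G) ⟶ G := NatTrans.ofOpSequence d fun n => by
      rw [W7Exist.completion_map_succ]
      haveI : Epi (Formal.modPowπ I (n + 1 + 1) (limit G)) := by unfold Formal.modPowπ; infer_instance
      rw [← cancel_epi (Formal.modPowπ I (n + 1 + 1) (limit G)), ← Category.assoc, Formal.modPowπ_trans, hd,
        ← Category.assoc, hd, limit.w]
    haveI : ∀ n, IsIso (η.app n) := fun n => hiso n.unop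
    haveI := NatIso.isIso_of_isIso_app η
    exact ⟨asIso η⟩

end Groth.Agent.FormLim
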