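import Groth.Agent.LimMilnor.Formal
import Groth.Agent.W7Rees.Sections
import Groth.Agent.AdicLim.Basic
import Groth.Agent.W7Exist.System

/-!
The limit of a quasi-coherent formal system and its truncations.
-/

set_option autoImplicit false
set_option linter.style.haveILetI false
set_option backward.isDefEq.respectTransparency false
set_option backward.isDefEq.respectTransparency.types false

universe u

open CategoryTheory CategoryTheory.Limits Opposite TopologicalSpace AlgebraicGeometry
open Groth.Agent.QC (res)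

noncomputable section

namespace Groth.Agent.FormLim

variable {A : Type u} [CommRing A] {X : Scheme.{u}} [X.Over (Spec (CommRingCat.of A))]
  {I : Ideal A} {G : ℕᵒᵖ ⥤ X.Modules} (hG : Formal2.IsQCohFormal I G)

/-- The transition maps on sections over an open, as linear maps over the base ring. -/
abbrev tsec (G : ℕᵒᵖ ⥤ X.Modules) (U : X.Opens) (n : ℕ) :
    ((W7Cech.secA A U).obj (G.obj (op (n + 1))) : Type u) →ₗ[A] ((W7Cech.secA A U).obj (G.obj (op n)) : Type u) :=
  ((W7Cech.secA A U).map (G.map (homOfLE (Nat.le_succ n)).op)).hom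

/-- The projections of the limit on sections over an open, as linear maps over the base ring. -/
abbrev psec (G : ℕᵒᵖ ⥤ X.Modules) (U : X.Opens) (n : ℕ) :
    ((W7Cech.secA A U).obj (limit G) : Type u) →ₗ[A] ((W7Cech.secA A U).obj (G.obj (op n)) : Type u) :=
  ((W7Cech.secA A U).map (limit.π G (op n))).hom

/-- The sections of a limit over an open are the compatible families. -/
theorem existsUnique_sections (G : ℕᵒᵖ ⥤ X.Modules) (U : X.Opens) (y : ∀ n, Γ(G.obj (op n), U))
    (hy : ∀ n, (G.map (homOfLE (Nat.le_succ n)).op).app U (y (n + 1)) = y n) :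
    ∃! x : Γ(limit G, U), ∀ n, (limit.π G (op n)).app U x = y n := by
  let E : X.Modules ⥤ Type u := SheafOfModules.toSheaf X.ringCatSheaf ⋙ sheafToPresheaf _ _ ⋙
    (evaluation _ _).obj (op U) ⋙ forget AddCommGrpCat.{u}
  haveI : PreservesLimitsOfShape ℕᵒᵖ (SheafOfModules.toSheaf.{u} X.ringCatSheaf) := LimMilnor.preservesLimit_toSheaf X
  haveI : PreservesLimitsOfShape ℕᵒᵖ (sheafToPresheaf (Opens.grothendieckTopology X) AddCommGrpCat.{u}) := inferInstance
  haveI : PreservesLimit G E := inferInstance
  have hy' : ∀ n m (h : n ≤ m), (G.map (homOfLE h).op).app U (y m) = y n := by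
    intro n m h
    induction m, h using Nat.le_induction with
    | base => rw [show (homOfLE (le_refl n)).op = 𝟙 (op n) from rfl, G.map_id]; rfl
    | succ m h ih =>
      rw [show (homOfLE (h.trans (Nat.le_succ m))).op = (homOfLE (Nat.le_succ m)).op ≫ (homOfLE h).op from rfl,
        G.map_comp]
      show (G.map (homOfLE h).op).app U ((G.map (homOfLE (Nat.le_succ m)).op).app U (y (m + 1))) = y n
      rw [hy m, ih]
  have hs : (fun j : ℕᵒᵖ => (show (G ⋙ E).obj j from y j.unop)) ∈ (G ⋙ E).sections := fun {i j} f =>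
    hy' j.unop i.unop (leOfHom f.unop)
  obtain ⟨x, hx, hu⟩ := (Types.isLimit_iff _).1 ⟨isLimitOfPreserves E (limit.isLimit G)⟩ _ hs
  exact ⟨x, fun n => hx (op n), fun z hz => hu z fun j => hz j.unop⟩

/-- The sections of the limit over an open form the limit of the sections. -/
theorem isLimit_psec (G : ℕᵒᵖ ⥤ X.Modules) (U : X.Opens) :
    AdicLim.IsLimit (tsec (A := A) G U) (psec (A := A) G U) where
  comm n := LinearMap.ext fun x =>
    congr(($(limit.w G (homOfLE (Nat.le_succ n)).op)).app U x)
  inj x hx := by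
    obtain ⟨z, -, hu⟩ := existsUnique_sections G U (fun n => 0) fun n => map_zero _
    exact (hu x hx).trans (hu 0 fun n => map_zero _).symm
  lift y hy := by
    obtain ⟨x, hx, -⟩ := existsUnique_sections G U y hy
    exact ⟨x, hx⟩

include hG in
theorem tsec_surjective {U : X.Opens} (hU : IsAffineOpen U) (n : ℕ) : Function.Surjective (tsec (A := A) G U n) := by
  obtain ⟨h, hiso⟩ := hG.2.2 n
  haveI := hiso
  haveI : Epi (G.map (homOfLE (Nat.le_succ n)).op) := by
    rw [← cokernel.π_desc (Formal.smulFamily (I ^ (n + 1)) (G.obj (op (n + 1))))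
      (G.map (homOfLE (Nat.le_succ n)).op) h]
    haveI : IsIso (cokernel.desc _ _ h) := hiso
    exact @epi_comp _ _ _ _ _ (cokernel.π _) inferInstance _ (IsIso.epi_of_iso _)
  exact QC.app_surjective_of_epi hU (hG.1 _) (hG.1 _) (G.map (homOfLE (Nat.le_succ n)).op)

include hG in
theorem ker_tsec {U : X.Opens} (hU : IsAffineOpen U) (n : ℕ) :
    LinearMap.ker (tsec (A := A) G U n) =
      I ^ (n + 1) • (⊤ : Submodule A ((W7Cech.secA A U).obj (G.obj (op (n + 1))) : Type u)) := by
  obtain ⟨h, hiso⟩ := hG.2.2 n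
  haveI := hiso
  ext s
  refine Iff.trans ?_ (W7Rees.modQuot_eq_zero_iff _ (I ^ (n + 1)) (hG.1 (n + 1)) hU s)
  have e := congr(($(cokernel.π_desc (Formal.smulFamily (I ^ (n + 1)) (G.obj (op (n + 1))))
    (G.map (homOfLE (Nat.le_succ n)).op) h)).app U s)
  show (G.map (homOfLE (Nat.le_succ n)).op).app U s = 0 ↔ _
  rw [← e]
  exact map_eq_zero_iff ((cokernel.desc _ _ h).app U).hom
    (ConcreteCategory.bijective_of_isIso ((cokernel.desc _ _ h).app U)).1

include hG in
/-- The projections of the limit, on sections over an affine open. -/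
theorem psec_props (hI : I.FG) {U : X.Opens} (hU : IsAffineOpen U) (n : ℕ) :
    Function.Surjective (psec (A := A) G U n) ∧ LinearMap.ker (psec (A := A) G U n) =
      I ^ (n + 1) • (⊤ : Submodule A ((W7Cech.secA A U).obj (limit G) : Type u)) :=
  ⟨(isLimit_psec G U).surjective (tsec_surjective hG hU) n,
    (isLimit_psec G U).ker_eq_of_fg I (tsec_surjective hG hU) (ker_tsec hG hU) hI n⟩

include hG in
/-- The truncations of the limit of a quasi-coherent formal system. -/
theorem isIso_desc (hI : I.FG) (n : ℕ) :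
    ∃ h : Formal.smulFamily (I ^ (n + 1)) (limit G) ≫ limit.π G (op n) = 0,
      IsIso (cokernel.desc _ _ h) := by
  have h : Formal.smulFamily (I ^ (n + 1)) (limit G) ≫ limit.π G (op n) = 0 := Sigma.hom_ext _ _ fun a => by
    rw [comp_zero, ← Category.assoc, show Sigma.ι (fun _ : ↥(I ^ (n + 1)) => limit G) a ≫
      Formal.smulFamily (I ^ (n + 1)) (limit G) = Formal.smulMod A _ (a : A) from Sigma.ι_desc _ a,
      W7Cech.smulMod_natural, hG.2.1 n a a.2, comp_zero]
  refine ⟨h, ?_⟩
  haveI : Epi (limit.π G (op n)) := ⟨fun {P} f g hfg => by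
    refine Scheme.Modules.hom_ext _ _ fun W => ?_
    ext s
    refine QC.section_eq_of_locally fun x hx => ?_
    obtain ⟨_, ⟨U, hU, rfl⟩, hxU, hUW⟩ :=
      (Scheme.isBasis_affineOpens X).exists_subset_of_mem_open hx W.2
    replace hUW : U ≤ W := hUW
    refine ⟨U, hUW, hxU, ?_⟩
    refine (QC.app_res f hUW s).trans (Eq.trans ?_ (QC.app_res g hUW s).symm)
    obtain ⟨z, hz⟩ := (psec_props hG hI hU n).1 (res _ hUW s)
    rw [← hz]
    exact congr(($hfg).app U z)⟩
  have hker : kernel.ι (limit.π G (op n)) ≫ cokernel.π (Formal.smulFamily (I ^ (n + 1)) (limit G)) = 0 := by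
    refine Scheme.Modules.hom_ext _ _ fun W => ?_
    ext k
    refine QC.section_eq_of_locally fun x hx => ?_
    obtain ⟨_, ⟨U, hU, rfl⟩, hxU, hUW⟩ :=
      (Scheme.isBasis_affineOpens X).exists_subset_of_mem_open hx W.2
    replace hUW : U ≤ W := hUW
    refine ⟨U, hUW, hxU, ?_⟩
    refine Eq.trans ?_ (map_zero _).symm
    refine (QC.app_res _ hUW k).trans ?_
    generalize res _ hUW k = k'
    have hmem : (show ((W7Cech.secA A U).obj (limit G) : Type u) from (kernel.ι (limit.π G (op n))).app U k') ∈
        LinearMap.ker (psec (A := A) G U n) :=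
      congr(($(kernel.condition (limit.π G (op n)))).app U k')
    rw [(psec_props hG hI hU n).2] at hmem
    show ((W7Cech.secA A U).map (cokernel.π (Formal.smulFamily (I ^ (n + 1)) (limit G)))).hom
      (show ((W7Cech.secA A U).obj (limit G) : Type u) from (kernel.ι (limit.π G (op n))).app U k') = 0
    generalize (show ((W7Cech.secA A U).obj (limit G) : Type u) from (kernel.ι (limit.π G (op n))).app U k') = f at hmem ⊢
    refine Submodule.smul_induction_on hmem (fun a ha m _ => ?_) fun a b ha hb => by rw [map_add, ha, hb, add_zero]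
    have e := congrArg (Sigma.ι (fun _ : ↥(I ^ (n + 1)) => limit G) ⟨a, ha⟩ ≫ ·)
      (cokernel.condition (Formal.smulFamily (I ^ (n + 1)) (limit G)))
    simp only [comp_zero] at e
    rw [← Category.assoc, show Sigma.ι (fun _ : ↥(I ^ (n + 1)) => limit G) ⟨a, ha⟩ ≫
      Formal.smulFamily (I ^ (n + 1)) (limit G) = Formal.smulMod A _ a from Sigma.ι_desc _ _] at e
    exact congr(($e).app U m)
  let w := Abelian.epiDesc (limit.π G (op n)) _ hker
  have hw : limit.π G (op n) ≫ w = cokernel.π (Formal.smulFamily (I ^ (n + 1)) (limit G)) :=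
    Abelian.comp_epiDesc _ _ _
  refine ⟨w, ?_, ?_⟩
  · rw [← cancel_epi (cokernel.π (Formal.smulFamily (I ^ (n + 1)) (limit G))), ← Category.assoc,
      cokernel.π_desc, hw, Category.comp_id]
  · rw [← cancel_epi (limit.π G (op n)), ← Category.assoc, hw, cokernel.π_desc, Category.comp_id]

end Groth.Agent.FormLim
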